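import Cfsg.Agent.H436.TwoRu
import Cfsg.Agent.H377.SporRow
import Cfsg.Agent.H568.RowTools

/-!
# S2499, `Ru`: the centralizers of the elements of order 13 (helper153)

* `cent_thirteen` : `x` of order 13, `t` an involution, `x t = t x`: `|C(t)| = 2 ^ 8 * 5 * 7 * 13`;
* `no_four` : no element of order 4 commutes with an element of order 13.
-/

set_option autoImplicit false

namespace Cfsg.Agent.H153.Cov.Ru

open Cfsg Subgroup Cfsg.Agent.SporadicB Cfsg.Agent.H436.TwoRu
open Cfsg.Agent.RuB (A4)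

/-- the structure of the centralizer of an element of order 13 -/
structure VY (v : A4 → RuOrder.H) (y : RuOrder.H) : Prop where
  order : orderOf y = 13
  sq : ∀ a, v a * v a = 1
  card : ∀ a, a ≠ 0 → Nat.card (centralizer ({v a} : Set RuOrder.H)) = 116480
  zero : v 0 = 1
  vv : ∀ a b, v a * v b = v b * v a
  vz : ∀ a, ∀ z ∈ zpowers y, v a * z = z * v a
  cent : ∀ g, g * y = y * g → ∃ a, ∃ z ∈ zpowers y, g = v a * z

theorem exists_v : ∃ (v : A4 → RuOrder.H) (y : RuOrder.H), VY v y := by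
  have := finite_H
  have hf13 : Fact (Nat.Prime 13) := ⟨by norm_num⟩
  obtain ⟨C, -⟩ := KFacts.Ru.exists_core isoH
  obtain ⟨⟨y, hyL⟩, hy⟩ := exists_prime_orderOf_dvd_card' (G := ↥C.L) 13 (by rw [RuB.Count.card_L]; norm_num)
  rw [Subgroup.orderOf_mk] at hy
  have hcy : ∀ a, ∀ z ∈ zpowers y, C.v a * z = z * C.v a := fun a z hz => C.v_comm a z ((zpowers_le.2 hyL) hz)
  have v0 : C.v 0 = 1 := by
    have h1 := C.v_add 0 0
    rw [add_zero] at h1
    exact left_eq_mul.1 h1
  refine ⟨C.v, y, hy, C.v_sq, fun a ha => by rw [RuB.Local.card_cent_v ha], v0, fun a b => by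
    rw [← C.v_add, ← C.v_add, add_comm], hcy, ?_⟩
  let φ : A4 × zpowers y → centralizer ({y} : Set RuOrder.H) := fun p =>
    ⟨C.v p.1 * (p.2 : RuOrder.H), by
      rw [mem_centralizer_singleton_iff]
      obtain ⟨k, hk⟩ := mem_zpowers_iff.1 p.2.2
      have h1 : (p.2 : RuOrder.H) * y = y * p.2 := by rw [← hk, ← zpow_add_one, ← zpow_one_add, add_comm]
      rw [mul_assoc, h1, ← mul_assoc, hcy p.1 y (mem_zpowers _), mul_assoc]⟩
  have hinj : Function.Injective φ := by
    rintro ⟨a, z⟩ ⟨b, z'⟩ h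
    have h1 : C.v a * (z : RuOrder.H) = C.v b * z' := congrArg Subtype.val h
    have h2 : C.v (b + a) = (z' : RuOrder.H) * (z : RuOrder.H)⁻¹ := by
      rw [C.v_add, eq_mul_inv_iff_mul_eq, mul_assoc, h1, ← mul_assoc, C.v_sq, one_mul]
    have h3 := C.v_notin (b + a) (by
      rw [h2]
      exact mul_mem ((zpowers_le.2 hyL) z'.2) (inv_mem ((zpowers_le.2 hyL) z.2)))
    have h4 : ∀ a b : A4, b + a = 0 → a = b := by decide
    have h5 := h4 a b h3
    subst h5
    exact Prod.ext rfl (Subtype.ext (mul_left_cancel h1))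
  have hcard : Nat.card (A4 × zpowers y) = 52 := by
    have h4 : Nat.card A4 = 4 := by rw [Nat.card_eq_fintype_card]; decide
    rw [Nat.card_prod, h4, Nat.card_zpowers, hy]
  have hbij : Function.Bijective φ := by
    rw [Nat.bijective_iff_injective_and_card]
    refine ⟨hinj, le_antisymm (Nat.card_le_card_of_injective φ hinj) ?_⟩
    rw [hcard]
    exact Nat.le_of_dvd (by norm_num) (cent13 y hy)
  intro g hg
  obtain ⟨⟨a, z⟩, hz⟩ := hbij.2 ⟨g, mem_centralizer_singleton_iff.2 hg⟩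
  exact ⟨a, z, z.2, (congrArg Subtype.val hz).symm⟩

/-- elements commuting with an element of order 13, up to conjugation -/
theorem exists_conj {v : A4 → RuOrder.H} {y : RuOrder.H} (h : VY v y) {x : RuOrder.H}
    (hx : orderOf x = 13) : ∃ s : RuOrder.H, ∀ t, x * t = t * x → ∃ a, ∃ z ∈ zpowers y,
      s * t * s⁻¹ = v a * z := by
  have := finite_H
  have hf13 : Fact (Nat.Prime 13) := ⟨by norm_num⟩
  obtain ⟨P, hP⟩ := H377.SporRow.exists_cyclic (K := RuOrder.H) (p := 13) (by rw [card_H]; norm_num)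
  obtain ⟨s, ⟨i, hi⟩, -⟩ := H568.conj_of_cyclic P hP hx y h.order
  refine ⟨s, fun t hxt => ?_⟩
  have hi' : (s * x * s⁻¹) ^ i = y := hi
  have hc' : Commute (s * x * s⁻¹) (s * t * s⁻¹) := by
    show s * x * s⁻¹ * (s * t * s⁻¹) = s * t * s⁻¹ * (s * x * s⁻¹)
    calc s * x * s⁻¹ * (s * t * s⁻¹) = s * (x * t) * s⁻¹ := by group
      _ = s * (t * x) * s⁻¹ := by rw [hxt]
      _ = _ := by group
  have h2 : Commute y (s * t * s⁻¹) := by
    rw [← hi']
    exact hc'.zpow_left i
  exact h.cent _ h2.symm.eq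

/-- the elements of order 2 or 4 are in `V` -/
theorem eq_v {v : A4 → RuOrder.H} {y : RuOrder.H} (h : VY v y) {a : A4}
    {g z : RuOrder.H} (hz : z ∈ zpowers y) (hg : g = v a * z) (h4 : g ^ 4 = 1) : g = v a := by
  have h1 : Commute (v a) z := h.vz a z hz
  have h2 : z ^ 4 = 1 := by
    rw [hg, h1.mul_pow, show (4 : ℕ) = 2 * 2 by norm_num, pow_mul, pow_two (v a), h.sq, one_pow, one_mul] at h4
    exact h4
  have h3 : z ^ 13 = 1 := by
    obtain ⟨k, rfl⟩ := mem_zpowers_iff.1 hz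
    rw [← zpow_natCast, ← zpow_mul, mul_comm, zpow_mul, zpow_natCast, ← h.order, pow_orderOf_eq_one, one_zpow]
  have h5 : z = 1 := by
    have h6 : z ^ 13 = (z ^ 4) ^ 3 * z := by rw [← pow_mul, ← pow_succ]
    rw [h3, h2, one_pow, one_mul] at h6
    exact h6.symm
  rw [hg, h5, mul_one]

theorem card_cent_conj (s t : RuOrder.H) : Nat.card (centralizer ({s * t * s⁻¹} : Set RuOrder.H)) =
    Nat.card (centralizer ({t} : Set RuOrder.H)) := by
  refine Nat.card_congr ⟨fun g => ⟨s⁻¹ * g * s, ?_⟩, fun g => ⟨s * g * s⁻¹, ?_⟩, fun g => ?_, fun g => ?_⟩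
  · have h1 := mem_centralizer_singleton_iff.1 g.2
    rw [mem_centralizer_singleton_iff]
    calc s⁻¹ * g * s * t = s⁻¹ * (g * (s * t * s⁻¹)) * s := by group
      _ = s⁻¹ * (s * t * s⁻¹ * g) * s := by rw [h1]
      _ = t * (s⁻¹ * g * s) := by group
  · have h1 := mem_centralizer_singleton_iff.1 g.2
    rw [mem_centralizer_singleton_iff]
    calc s * g * s⁻¹ * (s * t * s⁻¹) = s * (g * t) * s⁻¹ := by group
      _ = s * (t * g) * s⁻¹ := by rw [h1]
      _ = s * t * s⁻¹ * (s * g * s⁻¹) := by group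
  · apply Subtype.ext; show s * (s⁻¹ * (g : RuOrder.H) * s) * s⁻¹ = g; group
  · apply Subtype.ext; show s⁻¹ * (s * (g : RuOrder.H) * s⁻¹) * s = g; group

/-- **involutions commuting with an element of order 13** -/
theorem cent_thirteen {x t : RuOrder.H} (hx : orderOf x = 13) (ht : orderOf t = 2) (hxt : x * t = t * x) :
    Nat.card (centralizer ({t} : Set RuOrder.H)) = 116480 := by
  obtain ⟨v, y, h⟩ := exists_v
  obtain ⟨s, hs⟩ := exists_conj h hx
  obtain ⟨a, z, hz, h1⟩ := hs t hxt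
  have ho : orderOf (s * t * s⁻¹) = 2 := by rw [H568.orderOf_conj', ht]
  have h3 := eq_v h hz h1 (by
    rw [show (4 : ℕ) = 2 * 2 by norm_num, pow_mul, ← ho, pow_orderOf_eq_one, one_pow])
  have ha : a ≠ 0 := by
    rintro rfl
    rw [h3, h.zero, orderOf_one] at ho
    norm_num at ho
  rw [← card_cent_conj s t, h3]
  exact h.card a ha

/-- **no element of order 4 commutes with an element of order 13** -/
theorem no_four {x t : RuOrder.H} (hx : orderOf x = 13) (ht : orderOf t = 4) : x * t ≠ t * x := by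
  intro hxt
  obtain ⟨v, y, h⟩ := exists_v
  obtain ⟨s, hs⟩ := exists_conj h hx
  obtain ⟨a, z, hz, h1⟩ := hs t hxt
  have ho : orderOf (s * t * s⁻¹) = 4 := by rw [H568.orderOf_conj', ht]
  have h3 := eq_v h hz h1 (by rw [← ho, pow_orderOf_eq_one])
  have h4 : (s * t * s⁻¹) ^ 2 = 1 := by rw [h3, pow_two, h.sq]
  have h5 := orderOf_dvd_of_pow_eq_one h4
  rw [ho] at h5
  norm_num at h5

/-- **the elements commuting with an element of order 13 commute with each other** -/
theorem comm_thirteen {x a b : RuOrder.H} (hx : orderOf x = 13) (ha : x * a = a * x) (hb : x * b = b * x) :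
    a * b = b * a := by
  obtain ⟨v, y, h⟩ := exists_v
  obtain ⟨s, hs⟩ := exists_conj h hx
  obtain ⟨i, z, hz, h1⟩ := hs a ha
  obtain ⟨j, w, hw, h2⟩ := hs b hb
  have hzw : z * w = w * z := by
    obtain ⟨k, rfl⟩ := mem_zpowers_iff.1 hz
    obtain ⟨l, rfl⟩ := mem_zpowers_iff.1 hw
    rw [← zpow_add, ← zpow_add, add_comm]
  have h3 : s * a * s⁻¹ * (s * b * s⁻¹) = s * b * s⁻¹ * (s * a * s⁻¹) := by
    rw [h1, h2]
    calc v i * z * (v j * w) = v i * (z * v j) * w := by group
      _ = v i * (v j * z) * w := by rw [h.vz j z hz]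
      _ = (v i * v j) * (z * w) := by group
      _ = (v j * v i) * (w * z) := by rw [h.vv, hzw]
      _ = v j * (v i * w) * z := by group
      _ = v j * (w * v i) * z := by rw [h.vz i w hw]
      _ = v j * w * (v i * z) := by group
  have h4 : s * (a * b) * s⁻¹ = s * (b * a) * s⁻¹ := by
    calc s * (a * b) * s⁻¹ = s * a * s⁻¹ * (s * b * s⁻¹) := by group
      _ = s * b * s⁻¹ * (s * a * s⁻¹) := h3
      _ = _ := by group
  exact mul_left_cancel (mul_right_cancel h4)

end Cfsg.Agent.H153.Cov.Ru
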