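import Cfsg.Agent.H153.Cov.Ru.Odd
import Cfsg.Agent.H257.Cov.Index

/-!
# S2499, `Ru`: the index of the simple group at the top (helper153)
-/

set_option autoImplicit false

namespace Cfsg.Agent.H153.Cov.Ru

open Cfsg Subgroup Cfsg.Agent.SporadicB Cfsg.Agent.H436.TwoRu Cfsg.Agent.OrdDiv
open Cfsg.Agent.H257.El (Known Top SitP)

/-- the Frattini argument -/
theorem index_mul_norm {Q : Type*} [Group Q] [Finite Q] {N : Subgroup Q} [N.Normal] {r : ℕ} (hr : r.Prime)
    (hN2 : ¬ r ^ 2 ∣ Nat.card N) {y : N} (hy : orderOf y = r) :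
    N.index * Nat.card (normalizer ((zpowers y : Subgroup N) : Set N)) =
      Nat.card (normalizer ((zpowers (y : Q) : Subgroup Q) : Set Q)) := by
  have hr' : Fact r.Prime := ⟨hr⟩
  have hdv : r ∣ Nat.card N := by rw [← hy]; exact orderOf_dvd_natCard _
  have hPy : IsPGroup r (zpowers y) :=
    IsPGroup.of_card (n := 1) (by rw [Nat.card_zpowers, hy, pow_one])
  obtain ⟨P, hP⟩ := hPy.exists_le_sylow
  have hPc : Nat.card P = r := by
    have h5 := Top.card_sylow_of P (a := 1) (by rw [pow_one]; exact hdv) hN2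
    rwa [pow_one] at h5
  have hPe : zpowers y = P := by
    apply Subgroup.eq_of_le_of_card_ge hP
    rw [hPc, Nat.card_zpowers, hy]
  have hmap : (P : Subgroup N).map N.subtype = zpowers (y : Q) := by
    rw [← hPe, MonoidHom.map_zpowers]
    rfl
  have hfr := Sylow.normalizer_sup_eq_top P
  rw [hmap] at hfr
  set M := normalizer ((zpowers (y : Q) : Subgroup Q) : Set Q) with hM
  have h5 : N.relIndex (M ⊔ N) = N.relIndex M := Subgroup.relIndex_sup_right _ _
  rw [hfr, Subgroup.relIndex_top_right] at h5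
  have h6 := Subgroup.card_mul_index (N.subgroupOf M)
  have h7 : (N.subgroupOf M).index = N.index := h5.symm
  have hmem : ∀ w : N, w ∈ zpowers y ↔ (w : Q) ∈ zpowers (y : Q) := by
    intro w
    rw [mem_zpowers_iff, mem_zpowers_iff]
    constructor
    · rintro ⟨j, hj⟩
      exact ⟨j, congrArg Subtype.val hj⟩
    · rintro ⟨j, hj⟩
      exact ⟨j, Subtype.ext hj⟩
  have hyN : ∀ w ∈ zpowers (y : Q), w ∈ N := by
    intro w hw
    obtain ⟨j, rfl⟩ := mem_zpowers_iff.1 hw
    exact zpow_mem y.2 j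
  have h8 : normalizer ((zpowers y : Subgroup N) : Set N) = M.subgroupOf N := by
    ext w
    rw [mem_subgroupOf, mem_normalizer_iff, hM, mem_normalizer_iff]
    constructor
    · intro hh v
      constructor
      · intro hv
        exact (hmem _).1 ((hh ⟨v, hyN v hv⟩).1 ((hmem _).2 hv))
      · intro hv
        have hvN : v ∈ N := by
          have h9 := mul_mem (mul_mem (inv_mem w.2) (hyN _ hv)) w.2
          rwa [show (w : Q)⁻¹ * ((w : Q) * v * (w : Q)⁻¹) * w = v by group] at h9
        exact (hmem _).1 ((hh ⟨v, hvN⟩).2 ((hmem _).2 hv))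
    · intro hh v
      rw [hmem, hmem]
      exact hh v
  have h9 : Nat.card (M.subgroupOf N) = Nat.card (N.subgroupOf M) := by
    have e1 : Nat.card (M.subgroupOf N) = Nat.card (N ⊓ M : Subgroup Q) := by
      rw [← Subgroup.inf_subgroupOf_left]
      exact Nat.card_congr (Subgroup.subgroupOfEquivOfLe inf_le_left).toEquiv
    have e2 : Nat.card (N.subgroupOf M) = Nat.card (N ⊓ M : Subgroup Q) := by
      rw [← Subgroup.inf_subgroupOf_right]
      exact Nat.card_congr (Subgroup.subgroupOfEquivOfLe inf_le_right).toEquiv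
    rw [e1, e2]
  rw [h7, ← h9, ← h8] at h6
  rw [mul_comm, h6]

variable {R : Subgroup RuOrder.H} {O : Subgroup R} [O.Normal] {N : Subgroup (R ⧸ O)}

theorem index_mul_dvd (ht : Top R 13 O N) {x : R} (hx : orderOf x = 13) :
    N.index * Nat.card (normalizer
      ((zpowers (⟨QuotientGroup.mk' O x, mk_mem_N ht hx⟩ : N) : Subgroup N) : Set N)) ∣ 624 := by
  have := finR (R := R)
  have hN := ht.normal
  set X : N := ⟨QuotientGroup.mk' O x, mk_mem_N ht hx⟩ with hX
  have hXo : orderOf X = 13 := by rw [hX, Subgroup.orderOf_mk, orderOf_mk ht hx]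
  have hXQ : orderOf (X : R ⧸ O) = 13 := by rw [Subgroup.orderOf_coe, hXo]
  have h2 : ¬ 13 ^ 2 ∣ Nat.card N := fun h => ht.sq' (h.trans (Subgroup.card_subgroup_dvd_card N))
  rw [index_mul_norm (by norm_num) h2 hXo]
  obtain ⟨e, m, h3, h4, -, -⟩ := H839.Count.card_normalizer (G := R ⧸ O) (p := 13)
    (c := Nat.card (centralizer ((zpowers (X : R ⧸ O) : Subgroup (R ⧸ O)) : Set (R ⧸ O)))) (by norm_num)
    (X := zpowers (X : R ⧸ O)) (by rw [Nat.card_zpowers, hXQ]) ht.sq' rfl
  rw [h4]
  have h7 : Nat.card (centralizer ((zpowers (X : R ⧸ O) : Subgroup (R ⧸ O)) : Set (R ⧸ O))) ∣ 52 := by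
    refine dvd_trans ?_ (card_cent_Q ht hx)
    apply Subgroup.card_dvd_of_le
    intro g hg
    rw [mem_centralizer_singleton_iff]
    exact (mem_centralizer_iff.1 hg _ (mem_zpowers _)).symm
  exact Nat.mul_dvd_mul h7 (show e ∣ 12 from h3)

end Cfsg.Agent.H153.Cov.Ru
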