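import Cfsg.Agent.H153.Cov.Ru.Idx
import Cfsg.Agent.H153.Cov.Ru.Small
import Cfsg.Agent.H153.ZerosRu
import Cfsg.Agent.H180.ElSuz
import Cfsg.Agent.H257.Cov.Star
import Cfsg.Agent.H348.Cov.JThree
import Cfsg.Agent.Lib.GoldschmidtFusion

/-!
# S2499: `Ru` (helper153)

Elements of order 29 on one side, elements of orders 16, 26, 20 on the other side.
-/

set_option autoImplicit false

namespace Cfsg.Agent.H153.Cov.Ru

open Cfsg Subgroup Cfsg.Agent.SporadicB Cfsg.Agent.H436.TwoRu Cfsg.Agent.OrdDiv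
open Cfsg.Agent.H257.El (Known Top SitP surv)

/-- a group of order 8 on which an element of order 16 acts -/
theorem comm_of_eight {Q : Type*} [Group Q] [Finite Q] {D : Subgroup Q} (h8 : Nat.card D = 8) {y : Q}
    (hy : orderOf y = 16) (hyD : ∀ s ∈ D, y * s * y⁻¹ ∈ D) (hc : y ^ 4 ∈ D) :
    ∀ a ∈ D, ∀ b ∈ D, a * b = b * a := by
  have ho : orderOf (⟨y ^ 4, hc⟩ : D) = 4 := by
    rw [Subgroup.orderOf_mk, orderOf_pow_of_dvd (by norm_num) (by rw [hy]; norm_num), hy]
  have hi : (zpowers (⟨y ^ 4, hc⟩ : D)).index = 2 := by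
    have h1 := Subgroup.card_mul_index (zpowers (⟨y ^ 4, hc⟩ : D))
    rw [Nat.card_zpowers, ho, h8] at h1
    omega
  have key : ∀ a b : D, a ∉ zpowers (⟨y ^ 4, hc⟩ : D) → b ∉ zpowers (⟨y ^ 4, hc⟩ : D) →
      ∃ i : ℤ, (b : Q) = a * (y ^ 4) ^ i := by
    intro a b ha hb
    have h1 : a⁻¹ * b ∈ zpowers (⟨y ^ 4, hc⟩ : D) := by
      rw [Subgroup.mul_mem_iff_of_index_two hi, inv_mem_iff]
      exact ⟨fun h => absurd h ha, fun h => absurd h hb⟩
    obtain ⟨i, hi⟩ := mem_zpowers_iff.1 h1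
    refine ⟨i, ?_⟩
    have h2 : (y ^ 4) ^ i = (a : Q)⁻¹ * b := congrArg Subtype.val hi
    rw [h2]
    group
  have hcm : ∀ i : ℤ, y * (y ^ 4) ^ i = (y ^ 4) ^ i * y := fun i =>
    (((Commute.refl y).pow_right 4).zpow_right i).eq
  have hmem : ∀ s (hs : s ∈ D), (⟨s, hs⟩ : D) ∈ zpowers (⟨y ^ 4, hc⟩ : D) ↔ ∃ i : ℤ, s = (y ^ 4) ^ i := by
    intro s hs
    rw [mem_zpowers_iff]
    constructor
    · rintro ⟨i, hi⟩
      exact ⟨i, (congrArg Subtype.val hi).symm⟩
    · rintro ⟨i, hi⟩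
      exact ⟨i, Subtype.ext hi.symm⟩
  have hcc : ∀ s ∈ D, s * y ^ 4 = y ^ 4 * s := by
    intro s hs
    by_cases h1 : (⟨s, hs⟩ : D) ∈ zpowers (⟨y ^ 4, hc⟩ : D)
    · obtain ⟨i, rfl⟩ := (hmem s hs).1 h1
      exact ((Commute.refl (y ^ 4)).zpow_left i).eq
    · have h2 : (⟨y * s * y⁻¹, hyD s hs⟩ : D) ∉ zpowers (⟨y ^ 4, hc⟩ : D) := by
        intro h3
        obtain ⟨i, hi⟩ := (hmem _ _).1 h3
        apply h1
        rw [hmem]
        refine ⟨i, ?_⟩
        calc s = y⁻¹ * (y * s * y⁻¹) * y := by group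
          _ = y⁻¹ * ((y ^ 4) ^ i * y) := by rw [hi, mul_assoc]
          _ = y⁻¹ * (y * (y ^ 4) ^ i) := by rw [hcm]
          _ = _ := by group
      obtain ⟨i, hi⟩ := key _ _ h1 h2
      have hi' : y * s * y⁻¹ = s * (y ^ 4) ^ i := hi
      have hstep : ∀ j : ℤ, y * (s * (y ^ 4) ^ j) * y⁻¹ = s * (y ^ 4) ^ (i + j) := by
        intro j
        calc y * (s * (y ^ 4) ^ j) * y⁻¹ = y * s * y⁻¹ * (y * (y ^ 4) ^ j) * y⁻¹ := by group
          _ = s * (y ^ 4) ^ i * ((y ^ 4) ^ j * y) * y⁻¹ := by rw [hi', hcm]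
          _ = s * ((y ^ 4) ^ i * (y ^ 4) ^ j) := by group
          _ = _ := by rw [← zpow_add]
      have h16 : y ^ 16 = 1 := by rw [← hy, pow_orderOf_eq_one]
      have h4 : y * (y * (y * (y * s * y⁻¹) * y⁻¹) * y⁻¹) * y⁻¹ = s := by
        rw [hi', hstep, hstep, hstep]
        have h5 : (y ^ 4) ^ (i + (i + (i + i))) = 1 := by
          rw [show i + (i + (i + i)) = 4 * i by ring, zpow_mul]
          have : (y ^ 4) ^ (4 : ℤ) = 1 := by
            rw [show (4 : ℤ) = ((4 : ℕ) : ℤ) by norm_num, zpow_natCast, ← pow_mul]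
            exact h16
          rw [this, one_zpow]
        rw [h5, mul_one]
      have h6 : y ^ 4 = y * y * y * y := by rw [pow_succ, pow_succ, pow_two]
      calc s * y ^ 4 = y * (y * (y * (y * s * y⁻¹) * y⁻¹) * y⁻¹) * y⁻¹ * y ^ 4 := by rw [h4]
        _ = y ^ 4 * s := by rw [h6]; group
  intro a ha b hb
  by_cases h1 : (⟨a, ha⟩ : D) ∈ zpowers (⟨y ^ 4, hc⟩ : D)
  · obtain ⟨i, rfl⟩ := (hmem a ha).1 h1
    exact ((show Commute b (y ^ 4) from hcc b hb).zpow_right i).symm.eq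
  · by_cases h2 : (⟨b, hb⟩ : D) ∈ zpowers (⟨y ^ 4, hc⟩ : D)
    · obtain ⟨i, rfl⟩ := (hmem b hb).1 h2
      exact ((show Commute a (y ^ 4) from hcc a ha).zpow_right i).eq
    · obtain ⟨i, hi⟩ := key _ _ h1 h2
      have hi' : b = a * (y ^ 4) ^ i := hi
      rw [hi']
      have h3 : Commute a ((y ^ 4) ^ i) := (show Commute a (y ^ 4) from hcc a ha).zpow_right i
      exact ((Commute.refl a).mul_right h3).eq

theorem false_of_sixteen {Q : Type*} [Group Q] [Finite Q] (N : Subgroup Q) [N.Normal] (h8 : 8 ∣ Nat.card N)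
    (h16 : ¬ 16 ∣ Nat.card N) (hab : ∀ D : Sylow 2 N, ¬ ∀ a ∈ (D : Subgroup N), ∀ b ∈ (D : Subgroup N), a * b = b * a)
    {y : Q} (hy : orderOf y = 16) (hyN : y ^ 4 ∈ N) : False := by
  have hf2 : Fact (Nat.Prime 2) := ⟨Nat.prime_two⟩
  have hPy : IsPGroup 2 (zpowers y) := IsPGroup.of_card (n := 4) (by rw [Nat.card_zpowers, hy]; norm_num)
  obtain ⟨P, hP⟩ := hPy.exists_le_sylow
  have hyP : y ∈ (P : Subgroup Q) := hP (mem_zpowers y)
  have h1 : IsPGroup 2 ((P : Subgroup Q).subgroupOf N) :=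
    P.isPGroup'.comap_of_injective N.subtype N.subtype_injective
  have h2 : ¬ 2 ∣ ((P : Subgroup Q).subgroupOf N).index := fun h =>
    P.not_dvd_index (h.trans (Lib.GoldschmidtFusion.relIndex_dvd_index_of_normal_right (P : Subgroup Q) N))
  obtain ⟨D, hD⟩ : ∃ D : Sylow 2 N, (D : Subgroup N) = (P : Subgroup Q).subgroupOf N := ⟨h1.toSylow h2, rfl⟩
  have h3 : Nat.card D = 8 := Top.card_sylow_of D (a := 3) (by simpa using h8) (by simpa using h16)
  have h4 : Nat.card ((P : Subgroup Q) ⊓ N : Subgroup Q) = 8 := by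
    rw [← h3, ← Subgroup.subgroupOf_map_subtype, Subgroup.card_map_of_injective N.subtype_injective, ← hD]
  have h5 := comm_of_eight h4 hy (fun s hs => Subgroup.mem_inf.2 ⟨(P : Subgroup Q).mul_mem
    ((P : Subgroup Q).mul_mem hyP hs.1) ((P : Subgroup Q).inv_mem hyP),
    (inferInstance : N.Normal).conj_mem _ hs.2 y⟩) (Subgroup.mem_inf.2 ⟨(P : Subgroup Q).pow_mem hyP 4, hyN⟩)
  refine hab D fun a ha b hb => Subtype.ext (h5 a ⟨?_, a.2⟩ b ⟨?_, b.2⟩)
  · rw [hD] at ha
    exact ha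
  · rw [hD] at hb
    exact hb

theorem k_cases {k : ℕ} (h : k ∣ 48) : k = 1 ∨ k = 2 ∨ k = 3 ∨ k = 4 ∨ k = 6 ∨ k = 8 ∨ k = 12 ∨ k = 16 ∨ k = 24 ∨
    k = 48 := by
  have h1 : k ∈ Nat.divisors 48 := Nat.mem_divisors.2 ⟨h, by norm_num⟩
  rw [show Nat.divisors 48 = {1, 2, 3, 4, 6, 8, 12, 16, 24, 48} by decide] at h1
  simpa using h1

theorem surv_ru : ((surv 145926144000 l 13 [5]).all fun g =>
    [Grp.psl 2 64, .psl 2 25, .psu 3 4, .g2 4, .sz 8, .tits].contains g) = true := by decide +kernel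

/-- **no proper subgroup has elements of orders 16, 26, 20** -/
theorem no_all (tab : OrderTable.{0}) (known : Known.{0}) {R : Subgroup RuOrder.H} (hR : R ≠ ⊤)
    {y w v : R} (hy : orderOf y = 16) (hw : orderOf w = 26) (hv : orderOf v = 20) : False := by
  have := finite_H
  have hfR := finR (R := R)
  have hf13 : Fact (Nat.Prime 13) := ⟨by norm_num⟩
  have hf2 : Fact (Nat.Prime 2) := ⟨by norm_num⟩
  have h13 : 13 ∣ Nat.card R := (show 13 ∣ 26 by norm_num).trans (hw ▸ orderOf_dvd_natCard w)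
  have h5 : 5 ∣ Nat.card R := (show 5 ∣ 20 by norm_num).trans (hv ▸ orderOf_dvd_natCard v)
  obtain ⟨O, hO, N, ht, -, g, hg, hr, hc⟩ := H180.ElS.exists_surv_of_dvd tab known (T := RuOrder.H) (r := 13) (s := 5)
    (l := l) card_H (by decide +kernel) (by norm_num) (by norm_num)
    (noOrd13 (s := 5) (by norm_num) (by norm_num) (by norm_num)) (by decide +kernel) (by norm_num) hR h13 h5
  have hN := ht.normal
  have hsim := ht.simple
  have h1 : g ∈ [Grp.psl 2 64, .psl 2 25, .psu 3 4, .g2 4, .sz 8, .tits] := by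
    have h2 := (List.all_eq_true.1 surv_ru) g hg
    simpa using h2
  obtain ⟨x, hx⟩ := exists_prime_orderOf_dvd_card' (G := R) 13 h13
  have hna : Nat.card N ≠ 13 → ¬ ∀ a b : N, a * b = b * a := fun h hc => h (ht.card_of_comm hc)
  have hz : ¬ 2 ∣ Nat.card O → orderOf (QuotientGroup.mk' O y) = 16 := by
    intro h2
    rw [H257.Cov.orderOf_mk_quot O, hy]
    intro s hs hsx
    rw [hy] at hsx
    have : s ∣ 2 := hs.dvd_of_dvd_pow (show s ∣ 2 ^ 4 from hsx)
    rw [(Nat.prime_dvd_prime_iff_eq hs (by norm_num)).1 this]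
    exact h2
  -- the case of the tables
  have kill : ∀ k₀ : ℕ, 3 ∣ k₀ → ¬ 4 ∣ k₀ → 8 ∣ Nat.card N → 9 ∣ Nat.card N ∨ 25 ∣ Nat.card N →
      (∀ k m : ℕ, k ∣ 48 → m % 13 = 1 → m * (13 * k) = Nat.card N → ∀ z : R, ∀ hz : orderOf z = 13,
        Nat.card (normalizer ((zpowers (⟨QuotientGroup.mk' O z, mk_mem_N ht hz⟩ : N) : Subgroup N) : Set N)) = 13 * k →
        k = k₀) → False := by
    intro k₀ h3 h4 h8 h9 hk
    refine kill3 ht (not_two_dvd ht h8 h9) hw fun x hx => ?_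
    obtain ⟨k, m, e1, e2, e3, e4⟩ := exists_norm ht hx
    have h5 := hk k m e1 e2 e3 x hx e4
    rw [e4, h5]
    refine ⟨h3.mul_left 13, fun h => h4 ?_⟩
    exact (by norm_num : Nat.Coprime 4 13).dvd_of_dvd_mul_left h
  simp only [List.mem_cons, List.not_mem_nil, or_false] at h1
  rcases h1 with rfl | rfl | rfl | rfl | rfl | rfl
  · -- `PSL₂(64)`
    have hcard : Nat.card N = 262080 := hc.trans (by decide +kernel)
    obtain ⟨k, m, e1, e2, e3, -⟩ := exists_norm ht hx
    rw [hcard] at e3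
    rcases k_cases e1 with rfl | rfl | rfl | rfl | rfl | rfl | rfl | rfl | rfl | rfl <;> omega
  · -- `PSL₂(25)`
    have hcard : Nat.card N = 7800 := hc.trans (by decide +kernel)
    have hO2 := not_two_dvd ht (by rw [hcard]; norm_num) (Or.inr (by rw [hcard]; norm_num))
    have hi := ht.index_dvd_out (hna (by rw [hcard]; norm_num)) (aut_psl hr)
    refine false_of_sixteen N (by rw [hcard]; norm_num) (by rw [hcard]; norm_num) (exists_ne_comm hr) (hz hO2) ?_
    obtain ⟨c, hc⟩ := hi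
    rw [hc, pow_mul]
    exact N.pow_mem (N.pow_index_mem _) c
  · -- `PSU₃(4)`
    have hcard : Nat.card N = 62400 := hc.trans (by decide +kernel)
    have hO2 := not_two_dvd ht (by rw [hcard]; norm_num) (Or.inr (by rw [hcard]; norm_num))
    refine kill 3 (by norm_num) (by norm_num) (by rw [hcard]; norm_num) (Or.inr (by rw [hcard]; norm_num)) ?_
    intro k m e1 e2 e3 x hx e4
    rw [hcard] at e3
    have hk : k = 3 ∨ k = 16 := by
      rcases k_cases e1 with rfl | rfl | rfl | rfl | rfl | rfl | rfl | rfl | rfl | rfl <;> omega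
    rcases hk with hk | rfl
    · exact hk
    · exfalso
      have h2 := index_mul_dvd ht hx
      rw [e4] at h2
      have h3 : N.index ∣ 3 := Nat.dvd_of_mul_dvd_mul_right (k := 13 * 16) (by norm_num) (by simpa using h2)
      have h4 : (QuotientGroup.mk' O y) ^ 3 ∈ N := by
        obtain ⟨c, hc⟩ := h3
        rw [hc, pow_mul]
        exact N.pow_mem (N.pow_index_mem _) c
      have h6 : (⟨_, h4⟩ : N) ^ 2 ^ 4 = 1 := by
        apply Subtype.ext
        show ((QuotientGroup.mk' O y) ^ 3) ^ 2 ^ 4 = 1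
        rw [← pow_mul, mul_comm, pow_mul, show 2 ^ 4 = 16 by norm_num, ← hz hO2, pow_orderOf_eq_one, one_pow]
      have h7 := congrArg Subtype.val (psu_pow_four hr _ h6)
      have h8 : (QuotientGroup.mk' O y) ^ (3 * 4) = 1 := by
        rw [pow_mul]
        exact h7
      have h9 := orderOf_dvd_of_pow_eq_one h8
      rw [hz hO2] at h9
      norm_num at h9
  · -- `G₂(4)`
    have hcard : Nat.card N = 251596800 := hc.trans (by decide +kernel)
    refine kill 6 (by norm_num) (by norm_num) (by rw [hcard]; norm_num) (Or.inr (by rw [hcard]; norm_num)) ?_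
    intro k m e1 e2 e3 x hx e4
    rw [hcard] at e3
    rcases k_cases e1 with rfl | rfl | rfl | rfl | rfl | rfl | rfl | rfl | rfl | rfl <;> omega
  · -- `Sz(8)`
    have hcard : Nat.card N = 29120 := hc.trans (by decide +kernel)
    have hna' := hna (by rw [hcard]; norm_num)
    have hi := ht.index_dvd_out hna' (aut_sz hna' hr)
    have h4 : (QuotientGroup.mk' O y) ^ 3 ∈ N := by
      obtain ⟨c, hc⟩ := hi
      rw [hc, pow_mul]
      exact N.pow_mem (N.pow_index_mem _) c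
    have h16 : y ^ 16 = 1 := by rw [← hy, pow_orderOf_eq_one]
    have h6 : (⟨_, h4⟩ : N) ^ 2 ^ 4 = 1 := by
      apply Subtype.ext
      show ((QuotientGroup.mk' O y) ^ 3) ^ 2 ^ 4 = 1
      rw [← pow_mul, mul_comm, pow_mul, show 2 ^ 4 = 16 by norm_num, ← map_pow, h16, map_one, one_pow]
    have h7 := congrArg Subtype.val (sz_pow_four hr _ h6)
    have h8 : QuotientGroup.mk' O (y ^ 12) = 1 := by
      rw [map_pow, show 12 = 3 * 4 by norm_num, pow_mul]
      exact h7
    have h9 : y ^ 12 ∈ O := (QuotientGroup.eq_one_iff _).1 h8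
    have h10 : orderOf (y ^ 12) = 4 := by
      rw [orderOf_pow, hy]
      norm_num
    have h11 : IsPGroup 2 (zpowers (⟨y ^ 12, h9⟩ : O)) :=
      IsPGroup.of_card (n := 2) (by rw [Nat.card_zpowers, Subgroup.orderOf_mk, h10]; norm_num)
    obtain ⟨S, hS⟩ := h11.exists_le_sylow
    obtain ⟨u, hu, huc⟩ := exists_cent_sylow ht (by rw [hcard]; norm_num) S
    have h12 := huc (y ^ 12) ⟨⟨y ^ 12, h9⟩, hS (mem_zpowers _), rfl⟩
    exact no_four (x := (u : RuOrder.H)) (t := ((y ^ 12 : R) : RuOrder.H)) (by rw [Subgroup.orderOf_coe, hu])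
      (by rw [Subgroup.orderOf_coe, h10]) (congrArg Subtype.val h12)
  · -- the Tits group
    have hcard : Nat.card N = 17971200 := hc.trans (by decide +kernel)
    refine kill 6 (by norm_num) (by norm_num) (by rw [hcard]; norm_num) (Or.inr (by rw [hcard]; norm_num)) ?_
    intro k m e1 e2 e3 x hx e4
    rw [hcard] at e3
    rcases k_cases e1 with rfl | rfl | rfl | rfl | rfl | rfl | rfl | rfl | rfl | rfl <;> omega

/-! ### the overgroups of the elements of order 29 -/

theorem isol29 : H257.Cov.Isol RuOrder.H 29 := by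
  have := finite_H
  refine H257.Cov.isol_of_cent (by norm_num) fun x hx => ?_
  apply Nat.dvd_antisymm (by simpa using cent29 x hx)
  have h1 : x ∈ centralizer ({x} : Set RuOrder.H) := mem_centralizer_singleton_iff.2 rfl
  have h2 := Subgroup.orderOf_dvd_natCard _ h1
  rwa [hx] at h2

theorem exists_ord {m : ℕ} (h : ∃ d ∈ H153.Zeros.RuCls.data, d.2.1 = m) : ∃ g : RuOrder.H, orderOf g = m := by
  obtain ⟨d, hd, rfl⟩ := h
  have h2 := List.all_eq_true.1 H153.Zeros.RuCls.data_chk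
  exact ⟨_, (H153.Zeros.RuCls.hasOrd_of_chk (H153.Zeros.RuCls.data_primes d hd) (h2 d hd)).1⟩

theorem noTwo_H (tab : OrderTable.{0}) (known : Known.{0}) : H278.Cov.NoTwo RuOrder.H := by
  have := finite_H
  have p29 : Nat.Prime 29 := by norm_num
  refine H257.Cov.noTwo_of_star_orders (r := 29) (L := [16, 26, 20]) (exists_ord (by decide)) ?_ ?_ ?_
  · intro m hm
    simp only [List.mem_cons, List.not_mem_nil, or_false] at hm
    rcases hm with rfl | rfl | rfl <;> exact exists_ord (by decide)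
  · intro m hm
    simp only [List.mem_cons, List.not_mem_nil, or_false] at hm
    rcases hm with rfl | rfl | rfl
    · exact H257.Cov.oinc_of_chkI tab known (l := l) [] card_H p29 isol29 (by decide +kernel) (by simp)
    · exact H257.Cov.oinc_of_chkI tab known (l := l) [] card_H p29 isol29 (by decide +kernel) (by simp)
    · refine H257.Cov.oinc_of_chkI tab known (l := l) [.psl 2 29] card_H p29 isol29 (by decide +kernel) ?_
      intro g hg X _ _ hX
      simp only [List.mem_singleton] at hg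
      subst hg
      exact H348.Cov.JThree.no_of_mod (m := 20) p29 (by norm_num : 29 = 29 ^ 1) (by norm_num) (by decide) hX
  · intro R hR h
    obtain ⟨y, hyR, hy⟩ := h 16 (by simp)
    obtain ⟨w, hwR, hw⟩ := h 26 (by simp)
    obtain ⟨v, hvR, hv⟩ := h 20 (by simp)
    exact no_all tab known hR (y := ⟨y, hyR⟩) (w := ⟨w, hwR⟩) (v := ⟨v, hvR⟩) (by rw [Subgroup.orderOf_mk, hy])
      (by rw [Subgroup.orderOf_mk, hw]) (by rw [Subgroup.orderOf_mk, hv])

/-- **S2499, the row `Ru`** -/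
theorem noTwo_ru (tab : OrderTable.{0}) (known : Known.{0}) {T : Type} [Group T] [Finite T] (h : Spor.IsoRu T) :
    H278.Cov.NoTwo T := by
  obtain ⟨e⟩ := h
  exact (noTwo_H tab known).congr (e.trans RuLat.Main.equiv).symm

end Cfsg.Agent.H153.Cov.Ru
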