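import Cfsg.Agent.H153.Cov.Ru.Quot

/-!
# S2499, `Ru`: the core of a proper subgroup of order divisible by 13 (helper153)
-/

set_option autoImplicit false

namespace Cfsg.Agent.H153.Cov.Ru

open Cfsg Subgroup Cfsg.Agent.SporadicB Cfsg.Agent.H436.TwoRu Cfsg.Agent.OrdDiv
open Cfsg.Agent.H257.El (Known Top SitP)

variable {R : Subgroup RuOrder.H} {O : Subgroup R} [O.Normal] {N : Subgroup (R ⧸ O)}

theorem card_mul_dvd : Nat.card O * Nat.card N ∣ 145926144000 := by
  have := finR (R := R)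
  have h1 : Nat.card R ∣ 145926144000 := by
    rw [← card_H]
    exact Subgroup.card_subgroup_dvd_card R
  rw [← H257.El.card_quot_mul O, mul_comm] at h1
  exact (Nat.mul_dvd_mul_left _ (Subgroup.card_subgroup_dvd_card N)).trans h1

/-- the Sylow 2-subgroups of the core are centralized by elements of order 13 -/
theorem exists_cent_sylow (ht : Top R 13 O N) (h8 : 8 ∣ Nat.card N) (S : Sylow 2 O) :
    ∃ y : R, orderOf y = 13 ∧ ∀ w ∈ (S : Subgroup O).map O.subtype, y * w = w * y := by
  have := finR (R := R)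
  have hf13 : Fact (Nat.Prime 13) := ⟨by norm_num⟩
  have hf2 : Fact (Nat.Prime 2) := ⟨by norm_num⟩
  obtain ⟨y, hy, hyS⟩ := H257.El.exists_normalizer ht.dvdR O ht.core S
  set P : Subgroup R := (S : Subgroup O).map O.subtype with hP
  obtain ⟨b, hb⟩ := IsPGroup.iff_card.1 (S.isPGroup'.map O.subtype)
  rw [← hP] at hb
  have hPO : Nat.card P ∣ Nat.card O := by
    rw [hP, Subgroup.card_map_of_injective O.subtype_injective]
    exact Subgroup.card_subgroup_dvd_card _
  have hb11 : b ≤ 11 := by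
    by_contra hcon
    have h1 : 2 ^ 12 * 8 ∣ 145926144000 := by
      refine (Nat.mul_dvd_mul ?_ h8).trans (card_mul_dvd (O := O) (N := N))
      rw [hb] at hPO
      exact (pow_dvd_pow 2 (by omega)).trans hPO
    exact absurd h1 (by norm_num)
  refine ⟨y, hy, H257.El.comm_of_normalizer (by norm_num) (by norm_num) (by norm_num) hy hb hyS ?_⟩
  intro c hc1 hc2
  have : c ≤ 11 := hc2.trans hb11
  interval_cases c <;> norm_num

/-- **the order of the core is odd** -/
theorem not_two_dvd (ht : Top R 13 O N) (h8 : 8 ∣ Nat.card N) (h : 9 ∣ Nat.card N ∨ 25 ∣ Nat.card N) :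
    ¬ 2 ∣ Nat.card O := by
  intro h2
  have hfR := finR (R := R)
  have hf2 : Fact (Nat.Prime 2) := ⟨by norm_num⟩
  obtain ⟨S⟩ : Nonempty (Sylow 2 O) := inferInstance
  obtain ⟨y, hy, hyc⟩ := exists_cent_sylow ht h8 S
  set P : Subgroup R := (S : Subgroup O).map O.subtype with hP
  have hPc : Nat.card P = Nat.card S := by
    rw [hP, Subgroup.card_map_of_injective O.subtype_injective]
  have h2P : 2 ∣ Nat.card P := by
    rw [hPc]
    exact S.dvd_card_of_dvd_card h2
  have hP4 : Nat.card P ∣ 4 := by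
    have h1 : P ≤ centralizer ({y} : Set R) := fun w hw => mem_centralizer_singleton_iff.2 (hyc w hw).symm
    have h3 := ((Subgroup.card_dvd_of_le h1).trans (card_cent_coe y)).trans
      (cent13 (y : RuOrder.H) (by rw [Subgroup.orderOf_coe, hy]))
    have h4 : Nat.Coprime (Nat.card P) 13 := by
      obtain ⟨b, hb⟩ := IsPGroup.iff_card.1 (S.isPGroup'.map O.subtype)
      rw [← hP] at hb
      rw [hb]
      exact Nat.Coprime.pow_left _ (by norm_num)
    exact h4.dvd_of_dvd_mul_left h3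
  obtain ⟨⟨t, htP⟩, hto⟩ := exists_prime_orderOf_dvd_card' 2 h2P
  rw [Subgroup.orderOf_mk] at hto
  -- the orbit of `t`
  set M := normalizer (P : Set R) with hM
  let _ : MulAction M R := MulAction.compHom R ((MulAut.conj : R →* MulAut R).comp M.subtype)
  have hsm : ∀ (g : M) (r : R), g • r = (g : R) * r * (g : R)⁻¹ := fun g r => rfl
  have horb : MulAction.orbit M t ⊆ {p : R | p ∈ P ∧ p ≠ 1} := by
    rintro _ ⟨g, rfl⟩
    have h1 : (g : R) * t * (g : R)⁻¹ ∈ P := (mem_normalizer_iff.1 g.2 t).1 htP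
    refine ⟨h1, fun h3 => ?_⟩
    have h4 : (g : R) * t * (g : R)⁻¹ = 1 := h3
    have h5 : t = 1 := by
      calc t = (g : R)⁻¹ * ((g : R) * t * (g : R)⁻¹) * g := by group
        _ = 1 := by rw [h4]; group
    rw [h5, orderOf_one] at hto
    norm_num at hto
  have hcard3 : (MulAction.orbit M t).ncard ≤ 3 := by
    refine (Set.ncard_le_ncard horb (Set.toFinite _)).trans ?_
    have h1 : {p : R | p ∈ P ∧ p ≠ 1} = (P : Set R) \ {1} := by
      ext p
      simp
    rw [h1, Set.ncard_diff_singleton_of_mem (one_mem P)]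
    have h3 : (P : Set R).ncard = Nat.card P := (Nat.card_coe_set_eq (P : Set R)).symm
    rw [h3]
    have := Nat.le_of_dvd (by norm_num) hP4
    omega
  have hst : Nat.card (MulAction.stabilizer M t) ∣ 116480 := by
    have h1 : (MulAction.stabilizer M t).map M.subtype ≤ centralizer ({t} : Set R) := by
      rintro _ ⟨g, hg, rfl⟩
      have h3 : (g : R) * t * (g : R)⁻¹ = t := hg
      rw [mem_centralizer_singleton_iff]
      calc (g : R) * t = (g : R) * t * (g : R)⁻¹ * g := by group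
        _ = t * g := by rw [h3]
    have h3 := Subgroup.card_dvd_of_le h1
    rw [Subgroup.card_map_of_injective M.subtype_injective] at h3
    refine (h3.trans (card_cent_coe t)).trans ?_
    have hx : (y : RuOrder.H) * t = t * y := congrArg Subtype.val (hyc t htP)
    rw [cent_thirteen (x := (y : RuOrder.H)) (t := (t : RuOrder.H)) (by rw [Subgroup.orderOf_coe, hy])
      (by rw [Subgroup.orderOf_coe, hto]) hx]
  have hMc : Nat.card M = Nat.card (MulAction.stabilizer M t) * (MulAction.orbit M t).ncard := by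
    rw [← MulAction.index_stabilizer, Subgroup.card_mul_index]
  have hR : Nat.card (R ⧸ O) ∣ Nat.card M := by
    have hfr := Sylow.normalizer_sup_eq_top S
    rw [← hP, ← hM] at hfr
    have h3 : O.relIndex (M ⊔ O) = O.relIndex M := Subgroup.relIndex_sup_right _ _
    rw [hfr, Subgroup.relIndex_top_right] at h3
    rw [← Subgroup.index_eq_card, h3]
    exact Subgroup.relIndex_dvd_card _ _
  have hN : Nat.card N ∣ 116480 * (MulAction.orbit M t).ncard := by
    refine ((Subgroup.card_subgroup_dvd_card N).trans hR).trans ?_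
    rw [hMc]
    exact Nat.mul_dvd_mul_right hst _
  have hpos : 0 < (MulAction.orbit M t).ncard := by
    rw [Set.ncard_pos (Set.toFinite _)]
    exact ⟨t, MulAction.mem_orbit_self t⟩
  generalize (MulAction.orbit M t).ncard = j at hcard3 hN hpos
  rcases h with h | h
  · have h5 := h.trans hN
    interval_cases j <;> norm_num at h5
  · have h5 := h.trans hN
    interval_cases j <;> norm_num at h5

/-! ### involutions of the quotient -/

/-- an involution of the quotient commuting with an element of order 13 commutes with no element of order 3 -/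
theorem key3 (ht : Top R 13 O N) (hO : ¬ 2 ∣ Nat.card O) {x : R} (hx : orderOf x = 13) {q c : R ⧸ O}
    (hq : orderOf q = 2) (hqx : q ∈ centralizer ({QuotientGroup.mk' O x} : Set (R ⧸ O))) (hc : orderOf c = 3)
    (hqc : c * q = q * c) : False := by
  have hfR := finR (R := R)
  rw [cent_quot O (by norm_num) ht.core hx] at hqx
  obtain ⟨g, hg, rfl⟩ := hqx
  obtain ⟨k, hk⟩ := H257.El.exists_lift (QuotientGroup.mk' O) hq
  set t := g ^ k with htd
  have htx : t * x = x * t := by
    have h1 : Commute g x := mem_centralizer_singleton_iff.1 hg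
    exact (h1.pow_left k).eq
  have hmt : orderOf (QuotientGroup.mk' O t) = 2 := by
    rw [H257.Cov.orderOf_mk_quot O, hk]
    intro s hs hsx
    rw [hk] at hsx
    rw [(Nat.prime_dvd_prime_iff_eq hs (by norm_num)).1 hsx]
    exact hO
  have hmt2 : QuotientGroup.mk' O t = QuotientGroup.mk' O g := by
    have h1 : QuotientGroup.mk' O t = (QuotientGroup.mk' O g) ^ k := by rw [htd, map_pow]
    have h2 : (QuotientGroup.mk' O g) ^ 2 = 1 := by rw [← hq, pow_orderOf_eq_one]
    rcases Nat.even_or_odd' k with ⟨j, rfl | rfl⟩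
    · exfalso
      rw [pow_mul, h2, one_pow] at h1
      rw [h1, orderOf_one] at hmt
      norm_num at hmt
    · rw [h1, pow_add, pow_mul, h2, one_pow, one_mul, pow_one]
  obtain ⟨g', rfl⟩ := QuotientGroup.mk'_surjective O c
  rw [← hmt2] at hqc
  obtain ⟨o, ho, hco⟩ := H257.El.exists_comm_lift O (by norm_num) hO hk hqc
  have h3 : 3 ∣ orderOf (g' * o) := by
    have h4 : QuotientGroup.mk' O (g' * o) = QuotientGroup.mk' O g' := by
      rw [map_mul, show QuotientGroup.mk' O o = 1 from (QuotientGroup.eq_one_iff o).2 ho, mul_one]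
    rw [← hc, ← h4]
    exact orderOf_map_dvd _ _
  have h4 : g' * o ∈ centralizer ({t} : Set R) := mem_centralizer_singleton_iff.2 hco
  have h5 := (h3.trans (Subgroup.orderOf_dvd_natCard _ h4)).trans (card_cent_coe t)
  have hx' : (x : RuOrder.H) * t = t * x := (congrArg Subtype.val htx).symm
  rw [cent_thirteen (x := (x : RuOrder.H)) (t := (t : RuOrder.H)) (by rw [Subgroup.orderOf_coe, hx])
    (by rw [Subgroup.orderOf_coe, hk]) hx'] at h5
  norm_num at h5

/-- **`3` divides and `4` does not divide the order of the normalizer in `N`, an element of order 26** -/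
theorem kill3 (ht : Top R 13 O N) (hO : ¬ 2 ∣ Nat.card O) {w : R} (hw : orderOf w = 26)
    (hk : ∀ x : R, ∀ hx : orderOf x = 13, 3 ∣ Nat.card (normalizer
      ((zpowers (⟨QuotientGroup.mk' O x, mk_mem_N ht hx⟩ : N) : Subgroup N) : Set N)) ∧ ¬ 4 ∣ Nat.card (normalizer
      ((zpowers (⟨QuotientGroup.mk' O x, mk_mem_N ht hx⟩ : N) : Subgroup N) : Set N))) : False := by
  have hfR := finR (R := R)
  have hf3 : Fact (Nat.Prime 3) := ⟨by norm_num⟩
  obtain ⟨x, hxd⟩ : ∃ x, x = w ^ 2 := ⟨_, rfl⟩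
  have hx : orderOf x = 13 := by
    rw [hxd, orderOf_pow_of_dvd (by norm_num) (by rw [hw]; norm_num), hw]
  obtain ⟨t, htd⟩ : ∃ t, t = w ^ 13 := ⟨_, rfl⟩
  have hto : orderOf t = 2 := by
    rw [htd, orderOf_pow_of_dvd (by norm_num) (by rw [hw]; norm_num), hw]
  have htx : t * x = x * t := by
    rw [htd, hxd]
    exact ((Commute.refl w).pow_pow 13 2).eq
  obtain ⟨h3, h4⟩ := hk x hx
  set X : N := ⟨QuotientGroup.mk' O x, mk_mem_N ht hx⟩ with hX
  have hXo : orderOf X = 13 := by rw [hX, Subgroup.orderOf_mk, orderOf_mk ht hx]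
  obtain ⟨⟨u, hu⟩, huo⟩ := exists_prime_orderOf_dvd_card' 3 h3
  rw [Subgroup.orderOf_mk] at huo
  have huo' : orderOf (u : R ⧸ O) = 3 := by rw [Subgroup.orderOf_coe, huo]
  -- conjugation by `u` on the centralizer
  have hcj : ∀ q ∈ centralizer ({QuotientGroup.mk' O x} : Set (R ⧸ O)),
      (u : R ⧸ O) * q * (u : R ⧸ O)⁻¹ ∈ centralizer ({QuotientGroup.mk' O x} : Set (R ⧸ O)) := by
    intro q hq
    have h5 : u⁻¹ * X * u ∈ zpowers X := by
      have h6 := (mem_normalizer_iff.1 (inv_mem hu) X).1 (mem_zpowers X)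
      rwa [inv_inv] at h6
    obtain ⟨i, hi⟩ := mem_zpowers_iff.1 h5
    have hi' : QuotientGroup.mk' O x ^ i = (u : R ⧸ O)⁻¹ * QuotientGroup.mk' O x * u := congrArg Subtype.val hi
    have h6 : Commute q (QuotientGroup.mk' O x ^ i) :=
      (show Commute q (QuotientGroup.mk' O x) from mem_centralizer_singleton_iff.1 hq).zpow_right i
    have h7 := h6.eq
    rw [hi'] at h7
    rw [mem_centralizer_singleton_iff]
    calc (u : R ⧸ O) * q * (u : R ⧸ O)⁻¹ * QuotientGroup.mk' O x
        = u * (q * ((u : R ⧸ O)⁻¹ * QuotientGroup.mk' O x * u)) * (u : R ⧸ O)⁻¹ := by group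
      _ = u * ((u : R ⧸ O)⁻¹ * QuotientGroup.mk' O x * u * q) * (u : R ⧸ O)⁻¹ := by rw [h7]
      _ = _ := by group
  have hord : ∀ q : R ⧸ O, orderOf ((u : R ⧸ O) * q * (u : R ⧸ O)⁻¹) = orderOf q := fun q =>
    H568.orderOf_conj' (u : R ⧸ O) q
  have hne : ∀ q : R ⧸ O, orderOf q = 2 → q ∈ centralizer ({QuotientGroup.mk' O x} : Set (R ⧸ O)) →
      (u : R ⧸ O) * q * (u : R ⧸ O)⁻¹ ≠ q := by
    intro q hq hqx he
    refine key3 ht hO hx hq hqx huo' ?_
    calc (u : R ⧸ O) * q = (u : R ⧸ O) * q * (u : R ⧸ O)⁻¹ * u := by group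
      _ = q * u := by rw [he]
  set q := QuotientGroup.mk' O t with hq
  have hqo : orderOf q = 2 := by
    rw [hq, H257.Cov.orderOf_mk_quot O, hto]
    intro s hs hsx
    rw [hto] at hsx
    rw [(Nat.prime_dvd_prime_iff_eq hs (by norm_num)).1 hsx]
    exact hO
  have hqx : q ∈ centralizer ({QuotientGroup.mk' O x} : Set (R ⧸ O)) := by
    rw [mem_centralizer_singleton_iff, hq, ← map_mul, ← map_mul, htx]
  have hq2 : q * q = 1 := by rw [← pow_two, ← hqo, pow_orderOf_eq_one]
  set p := q * ((u : R ⧸ O) * q * (u : R ⧸ O)⁻¹) with hp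
  have hpx : p ∈ centralizer ({QuotientGroup.mk' O x} : Set (R ⧸ O)) := mul_mem hqx (hcj q hqx)
  have hpN : p ∈ N := by
    have hN := ht.normal
    have h5 : q * (u : R ⧸ O) * q⁻¹ ∈ N := hN.conj_mem _ u.2 q
    have h6 : q⁻¹ = q := inv_eq_of_mul_eq_one_right hq2
    rw [h6] at h5
    have h7 : p = q * u * q * (u : R ⧸ O)⁻¹ := by rw [hp]; group
    rw [h7]
    exact mul_mem h5 (inv_mem u.2)
  have hpo : orderOf p = 2 := by
    have hf2 : Fact (Nat.Prime 2) := ⟨by norm_num⟩
    apply orderOf_eq_prime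
    · have h5 := comm_Q ht hx hqx (hcj q hqx)
      have h6 : Commute q ((u : R ⧸ O) * q * (u : R ⧸ O)⁻¹) := h5
      rw [hp, h6.mul_pow, pow_two q, hq2, one_mul, pow_two]
      calc (u : R ⧸ O) * q * (u : R ⧸ O)⁻¹ * ((u : R ⧸ O) * q * (u : R ⧸ O)⁻¹)
          = (u : R ⧸ O) * (q * q) * (u : R ⧸ O)⁻¹ := by group
        _ = 1 := by rw [hq2]; group
    · intro h5
      apply hne q hqo hqx
      have h6 : (u : R ⧸ O) * q * (u : R ⧸ O)⁻¹ = q⁻¹ := eq_inv_of_mul_eq_one_right h5
      rw [h6]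
      exact inv_eq_of_mul_eq_one_right hq2
  have hp1N : (u : R ⧸ O) * p * (u : R ⧸ O)⁻¹ ∈ N := mul_mem (mul_mem u.2 hpN) (inv_mem u.2)
  have hmem : ∀ g : N, (g : R ⧸ O) ∈ centralizer ({QuotientGroup.mk' O x} : Set (R ⧸ O)) →
      g ∈ normalizer ((zpowers X : Subgroup N) : Set N) := by
    intro g hg
    apply centralizer_le_normalizer
    rw [mem_centralizer_iff]
    rintro _ ⟨i, rfl⟩
    have h5 : Commute X g := Subtype.ext (mem_centralizer_singleton_iff.1 hg).symm
    exact (h5.zpow_left i).eq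
  apply h4
  refine four_dvd (p := (⟨p, hpN⟩ : N)) (q := ⟨(u : R ⧸ O) * p * (u : R ⧸ O)⁻¹, hp1N⟩) (hmem _ hpx)
    (hmem _ (hcj p hpx)) ?_ ?_ ?_ ?_
  · rw [Subgroup.orderOf_mk, hpo]
  · rw [Subgroup.orderOf_mk, hord, hpo]
  · intro h5
    exact hne p hpo hpx (congrArg Subtype.val h5).symm
  · exact Subtype.ext (comm_Q ht hx hpx (hcj p hpx))

end Cfsg.Agent.H153.Cov.Ru
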