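import Cfsg.Agent.H153.Cov.Ru.Facts
import Cfsg.Agent.H257.Cov.Tools
import Cfsg.Agent.H839.Count

/-!
# S2499, `Ru`: a proper subgroup of order divisible by 13 (helper153)
-/

set_option autoImplicit false

namespace Cfsg.Agent.H153.Cov.Ru

open Cfsg Subgroup Cfsg.Agent.SporadicB Cfsg.Agent.H436.TwoRu Cfsg.Agent.OrdDiv
open Cfsg.Agent.H257.El (Known Top SitP)

theorem noOrd13 {s : ℕ} (hs : s.Prime) (h2 : s ≠ 2) (h13 : s ≠ 13) (z : RuOrder.H) : orderOf z ≠ 13 * s := by
  have := finite_H
  refine H257.El.noOrd_of_noComm (by norm_num) hs (fun x y hx hy hxy => ?_) z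
  have h1 : y ∈ centralizer ({x} : Set RuOrder.H) := mem_centralizer_singleton_iff.2 hxy.symm
  have h3 := (Subgroup.orderOf_dvd_natCard _ h1).trans (cent13 x hx)
  rw [hy] at h3
  rcases (hs.dvd_mul).1 h3 with h4 | h4
  · exact h13 ((Nat.prime_dvd_prime_iff_eq hs (by norm_num)).1 h4)
  · have h5 : s ∣ 2 := hs.dvd_of_dvd_pow (show s ∣ 2 ^ 2 from h4)
    exact h2 ((Nat.prime_dvd_prime_iff_eq hs Nat.prime_two).1 h5)

section general

variable {R : Type*} [Group R] [Finite R]

/-- centralizers modulo a normal subgroup of order prime to `s` -/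
theorem cent_quot (O : Subgroup R) [O.Normal] {s : ℕ} (hs : s.Prime) (hsO : ¬ s ∣ Nat.card O) {y : R}
    (hy : orderOf y = s) : centralizer ({QuotientGroup.mk' O y} : Set (R ⧸ O)) =
      (centralizer ({y} : Set R)).map (QuotientGroup.mk' O) := by
  ext q
  constructor
  · intro hq
    obtain ⟨g, rfl⟩ := QuotientGroup.mk'_surjective O q
    obtain ⟨o, ho, hc⟩ := H257.El.exists_comm_lift O hs hsO hy (mem_centralizer_singleton_iff.1 hq)
    refine ⟨g * o, mem_centralizer_singleton_iff.2 hc, ?_⟩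
    rw [map_mul, show QuotientGroup.mk' O o = 1 from (QuotientGroup.eq_one_iff o).2 ho, mul_one]
  · rintro ⟨g, hg, rfl⟩
    rw [mem_centralizer_singleton_iff, ← map_mul, ← map_mul, mem_centralizer_singleton_iff.1 hg]

/-- a subgroup of order 4 -/
theorem four_dvd {A : Subgroup R} {p q : R} (hp : p ∈ A) (hq : q ∈ A) (op : orderOf p = 2) (oq : orderOf q = 2)
    (hpq : p ≠ q) (hc : p * q = q * p) : 4 ∣ Nat.card A := by
  have h1 : ∀ a ∈ zpowers p, ∀ b ∈ zpowers q, a * b = b * a := by
    intro a ha b hb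
    obtain ⟨i, rfl⟩ := mem_zpowers_iff.1 ha
    obtain ⟨j, rfl⟩ := mem_zpowers_iff.1 hb
    exact (((show Commute p q from hc).zpow_left i).zpow_right j).eq
  have h2 : zpowers p ⊓ zpowers q = ⊥ := by
    rw [eq_bot_iff]
    rintro a ⟨ha, hb⟩
    have hz : ∀ r : R, orderOf r = 2 → ∀ a ∈ zpowers r, a = 1 ∨ a = r := by
      intro r hr a ha
      have hr2 : r ^ 2 = 1 := by rw [← hr, pow_orderOf_eq_one]
      obtain ⟨i, rfl⟩ := mem_zpowers_iff.1 ha
      rcases Int.even_or_odd' i with ⟨k, rfl | rfl⟩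
      · left
        rw [zpow_mul, show r ^ (2 : ℤ) = 1 from by exact_mod_cast hr2, one_zpow]
      · right
        rw [zpow_add, zpow_mul, show r ^ (2 : ℤ) = 1 from by exact_mod_cast hr2, one_zpow, one_mul, zpow_one]
    rcases hz p op a ha with h | h
    · exact h
    · rcases hz q oq a hb with h' | h'
      · exact h'
      · exact absurd (h.symm.trans h') hpq
  have h3 := H839.Count.card_sup_of_comm h1 h2
  rw [Nat.card_zpowers, Nat.card_zpowers, op, oq] at h3
  have h4 : zpowers p ⊔ zpowers q ≤ A := sup_le (zpowers_le.2 hp) (zpowers_le.2 hq)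
  have h5 := Subgroup.card_dvd_of_le h4
  rwa [h3] at h5

end general

/-! ### In `Ru` -/

variable {R : Subgroup RuOrder.H}

theorem finR : Finite R := by
  have := finite_H
  infer_instance

theorem card_cent_coe (y : R) : Nat.card (centralizer ({y} : Set R)) ∣
    Nat.card (centralizer ({(y : RuOrder.H)} : Set RuOrder.H)) := by
  have h1 : (centralizer ({y} : Set R)).map R.subtype ≤ centralizer ({(y : RuOrder.H)} : Set RuOrder.H) := by
    rintro _ ⟨g, hg, rfl⟩
    rw [mem_centralizer_singleton_iff]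
    exact congrArg Subtype.val (mem_centralizer_singleton_iff.1 hg)
  have h2 := Subgroup.card_dvd_of_le h1
  rwa [Subgroup.card_map_of_injective R.subtype_injective] at h2

variable {O : Subgroup R} [O.Normal] {N : Subgroup (R ⧸ O)}

/-- the centralizer of an element of order 13 of the quotient -/
theorem card_cent_Q (ht : Top R 13 O N) {x : R} (hx : orderOf x = 13) :
    Nat.card (centralizer ({QuotientGroup.mk' O x} : Set (R ⧸ O))) ∣ 52 := by
  have := finR (R := R)
  rw [cent_quot O (by norm_num) ht.core hx]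
  refine (Subgroup.card_map_dvd _ _).trans ((card_cent_coe x).trans ?_)
  exact cent13 (x : RuOrder.H) (by rw [Subgroup.orderOf_coe, hx])

theorem comm_Q (ht : Top R 13 O N) {x : R} (hx : orderOf x = 13) {a b : R ⧸ O}
    (ha : a ∈ centralizer ({QuotientGroup.mk' O x} : Set (R ⧸ O)))
    (hb : b ∈ centralizer ({QuotientGroup.mk' O x} : Set (R ⧸ O))) : a * b = b * a := by
  have := finR (R := R)
  rw [cent_quot O (by norm_num) ht.core hx] at ha hb
  obtain ⟨g, hg, rfl⟩ := ha
  obtain ⟨k, hk, rfl⟩ := hb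
  rw [← map_mul, ← map_mul]
  congr 1
  apply Subtype.ext
  have hx' : orderOf (x : RuOrder.H) = 13 := by rw [Subgroup.orderOf_coe, hx]
  have hc : ∀ g : R, g ∈ centralizer ({x} : Set R) → (x : RuOrder.H) * g = g * x := fun g hg =>
    (congrArg Subtype.val (mem_centralizer_singleton_iff.1 hg)).symm
  exact comm_thirteen hx' (hc g hg) (hc k hk)

theorem mk_mem_N (ht : Top R 13 O N) {x : R} (hx : orderOf x = 13) : QuotientGroup.mk' O x ∈ N := by
  have := finR (R := R)
  have := ht.normal
  apply H257.Cov.mem_of_coprime_index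
  have h1 : orderOf (QuotientGroup.mk' O x) ∣ 13 := by
    rw [← hx]
    exact orderOf_map_dvd _ _
  refine Nat.Coprime.coprime_dvd_left h1 ?_
  rw [Nat.Prime.coprime_iff_not_dvd (by norm_num)]
  intro h2
  apply ht.sq'
  rw [← Subgroup.card_mul_index N, pow_two]
  exact Nat.mul_dvd_mul ht.dvd h2

theorem orderOf_mk (ht : Top R 13 O N) {x : R} (hx : orderOf x = 13) : orderOf (QuotientGroup.mk' O x) = 13 := by
  have := finR (R := R)
  rw [H257.Cov.orderOf_mk_quot O, hx]
  intro s hs hsx
  rw [hx] at hsx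
  rw [(Nat.prime_dvd_prime_iff_eq hs (by norm_num)).1 hsx]
  exact ht.core

/-- the normalizer of a subgroup of order 13 of `N` -/
theorem exists_norm (ht : Top R 13 O N) {x : R} (hx : orderOf x = 13) :
    ∃ k m : ℕ, k ∣ 48 ∧ m % 13 = 1 ∧ m * (13 * k) = Nat.card N ∧
      Nat.card (normalizer ((zpowers (⟨QuotientGroup.mk' O x, mk_mem_N ht hx⟩ : N) : Subgroup N) : Set N)) = 13 * k := by
  have := finR (R := R)
  set X : N := ⟨QuotientGroup.mk' O x, mk_mem_N ht hx⟩ with hX
  have hXo : orderOf X = 13 := by rw [hX, Subgroup.orderOf_mk, orderOf_mk ht hx]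
  have h2 : ¬ 13 ^ 2 ∣ Nat.card N := fun h => ht.sq' (h.trans (Subgroup.card_subgroup_dvd_card N))
  obtain ⟨e, m, h3, h4, h5, h6⟩ := H839.Count.card_normalizer (G := N) (p := 13)
    (c := Nat.card (centralizer ((zpowers X : Subgroup N) : Set N))) (by norm_num)
    (X := zpowers X) (by rw [Nat.card_zpowers, hXo]) h2 rfl
  have h7 : Nat.card (centralizer ((zpowers X : Subgroup N) : Set N)) ∣ 52 := by
    refine dvd_trans ?_ (card_cent_Q ht hx)
    have h8 : (centralizer ((zpowers X : Subgroup N) : Set N)).map N.subtype ≤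
        centralizer ({QuotientGroup.mk' O x} : Set (R ⧸ O)) := by
      rintro _ ⟨g, hg, rfl⟩
      rw [mem_centralizer_singleton_iff]
      exact (congrArg Subtype.val (mem_centralizer_iff.1 hg X (mem_zpowers X))).symm
    have h9 := Subgroup.card_dvd_of_le h8
    rwa [Subgroup.card_map_of_injective N.subtype_injective] at h9
  have h8 : 13 ∣ Nat.card (centralizer ((zpowers X : Subgroup N) : Set N)) := by
    have h9 : X ∈ centralizer ((zpowers X : Subgroup N) : Set N) := by
      rw [mem_centralizer_iff]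
      rintro _ ⟨i, rfl⟩
      exact ((Commute.refl X).zpow_left i).eq
    have h10 := Subgroup.orderOf_dvd_natCard _ h9
    rwa [hXo] at h10
  obtain ⟨c, hc⟩ := h8
  rw [hc] at h7 h4 h6
  have h9 : c ∣ 4 := Nat.dvd_of_mul_dvd_mul_left (by norm_num : 0 < 13) (by simpa using h7)
  refine ⟨c * e, m, ?_, ?_, ?_, ?_⟩
  · exact Nat.mul_dvd_mul h9 (show e ∣ 12 from h3)
  · exact h5
  · rw [← mul_assoc 13, h6]
  · rw [h4, mul_assoc]

end Cfsg.Agent.H153.Cov.Ru
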